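import Cfsg.Agent.Blocks.TwoChars.SymmetricAlgebra
import Cfsg.Agent.Blocks.Defect.Carries
import Cfsg.Agent.Blocks.Defect.Translate
import Cfsg.Agent.Chars.Basic.Orthogonality
import Cfsg.Agent.Blocks.Orth.Blocks
import Cfsg.Agent.Blocks.Orth.Schur
import Mathlib.LinearAlgebra.Matrix.Rank

/-!
# The dimensions of a block algebra and of its centre

An idempotent matrix over the local ring has the same rank modulo the maximal ideal as over `ℂ`.
So the algebra `k G e` of a block has dimension `∑ χ(1)²` and its centre has dimension `k(B)`.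
-/

set_option autoImplicit false
set_option linter.style.haveILetI false
open scoped MonoidAlgebra
open Cfsg

namespace CfsgLib.Blocks.TwoChars

open CfsgLib.Blocks Module

variable {M : Ideal AlgInt} [hM : M.IsMaximal]

/-- A full minor. -/
theorem exists_mul_mul_eq_one {k : Type*} [Field k] {ι : Type*} [Fintype ι] [DecidableEq ι]
    (P : Matrix ι ι k) :
    ∃ (A : Matrix (Fin P.rank) ι k) (B : Matrix ι (Fin P.rank) k), A * P * B = 1 := by
  let f : (ι → k) →ₗ[k] (ι → k) := P.mulVecLin
  let V := LinearMap.range f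
  let iso : V ≃ₗ[k] (Fin P.rank → k) :=
    LinearEquiv.ofFinrankEq _ _ (by rw [Module.finrank_fin_fun]; rfl)
  obtain ⟨g, hg⟩ := f.rangeRestrict.exists_rightInverse_of_surjective f.range_rangeRestrict
  obtain ⟨l, hl⟩ := V.subtype.exists_leftInverse_of_injective V.ker_subtype
  refine ⟨LinearMap.toMatrix' (iso.toLinearMap ∘ₗ l),
    LinearMap.toMatrix' (g ∘ₗ iso.symm.toLinearMap), ?_⟩
  apply Matrix.toLin'.injective
  rw [Matrix.toLin'_mul, Matrix.toLin'_mul, Matrix.toLin'_toMatrix', Matrix.toLin'_toMatrix',
    Matrix.toLin'_one]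
  refine LinearMap.ext fun w => ?_
  have h1 : f (g (iso.symm w)) = ((iso.symm w : V) : ι → k) :=
    congrArg Subtype.val (LinearMap.congr_fun hg (iso.symm w))
  show iso (l (Matrix.toLin' P (g (iso.symm w)))) = w
  rw [show Matrix.toLin' P (g (iso.symm w)) = f (g (iso.symm w)) by rw [Matrix.toLin'_apply']]
  rw [h1]
  have h2 := LinearMap.congr_fun hl (iso.symm w)
  simp only [LinearMap.comp_apply, Submodule.subtype_apply, LinearMap.id_apply] at h2
  rw [h2, LinearEquiv.apply_symm_apply]

/-- The rank cannot grow on reduction. -/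
theorem rank_map_res_le {ι : Type*} [Fintype ι] [DecidableEq ι] (P : Matrix ι ι (localRing M)) :
    (P.map (res M)).rank ≤ (P.map (localRing M).subtype).rank := by
  classical
  obtain ⟨A, B, hAB⟩ := exists_mul_mul_eq_one (P.map (res M))
  choose lift hlift using res_surjective (M := M)
  set A' : Matrix (Fin (P.map (res M)).rank) ι (localRing M) := A.map lift
  set B' : Matrix ι (Fin (P.map (res M)).rank) (localRing M) := B.map lift
  have hA : A'.map (res M) = A := by ext i j; exact hlift _
  have hB : B'.map (res M) = B := by ext i j; exact hlift _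
  have hres : res M (A' * P * B').det = 1 := by
    rw [RingHom.map_det, RingHom.mapMatrix_apply, Matrix.map_mul, Matrix.map_mul, hA, hB, hAB,
      Matrix.det_one]
  have hne : ((A' * P * B').map (localRing M).subtype).det ≠ 0 := by
    rw [show (A' * P * B').map (localRing M).subtype =
      (localRing M).subtype.mapMatrix (A' * P * B') from rfl, ← RingHom.map_det]
    intro h0
    have : (A' * P * B').det = 0 := Subtype.ext h0
    rw [this, map_zero] at hres
    exact zero_ne_one hres
  have hrank := Matrix.rank_of_isUnit _ ((Matrix.isUnit_iff_isUnit_det _).mpr (Ne.isUnit hne))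
  rw [Fintype.card_fin, Matrix.map_mul, Matrix.map_mul] at hrank
  calc (P.map (res M)).rank = _ := hrank.symm
    _ ≤ _ := (Matrix.rank_mul_le_left _ _).trans (Matrix.rank_mul_le_right _ _)

theorem rank_add_rank_one_sub {k : Type*} [Field k] {ι : Type*} [Fintype ι] [DecidableEq ι]
    {P : Matrix ι ι k} (h : P * P = P) : P.rank + (1 - P).rank = Fintype.card ι := by
  have hker : LinearMap.range (1 - P).mulVecLin = LinearMap.ker P.mulVecLin := by
    ext v
    simp only [LinearMap.mem_range, LinearMap.mem_ker, Matrix.mulVecLin_apply]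
    constructor
    · rintro ⟨w, rfl⟩
      rw [Matrix.mulVec_mulVec, mul_sub, mul_one, h, sub_self, Matrix.zero_mulVec]
    · intro hv
      exact ⟨v, by rw [Matrix.sub_mulVec, Matrix.one_mulVec, hv, sub_zero]⟩
  rw [Matrix.rank, Matrix.rank, hker, LinearMap.finrank_range_add_finrank_ker,
    Module.finrank_fintype_fun_eq_card]

theorem natCast_rank_eq_trace {ι : Type*} [Fintype ι] [DecidableEq ι] {P : Matrix ι ι ℂ}
    (h : P * P = P) : (P.rank : ℂ) = P.trace := by
  have hproj : LinearMap.IsProj (LinearMap.range P.mulVecLin) P.mulVecLin :=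
    ⟨fun x => ⟨x, rfl⟩, by
      rintro _ ⟨y, rfl⟩
      simp only [Matrix.mulVecLin_apply, Matrix.mulVec_mulVec, h]⟩
  rw [Matrix.rank, ← hproj.trace, ← Matrix.toLin'_apply', Matrix.trace_toLin'_eq]

/-- An idempotent matrix over the local ring has the rank of its trace modulo the maximal ideal. -/
theorem rank_map_res_eq {ι : Type*} [Fintype ι] [DecidableEq ι] {P : Matrix ι ι (localRing M)}
    (h : P * P = P) {r : ℕ} (hr : (P.map (localRing M).subtype).trace = (r : ℂ)) :
    (P.map (res M)).rank = r := by
  set Pc := P.map (localRing M).subtype with hPc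
  set Pk := P.map (res M) with hPk
  have hc : Pc * Pc = Pc := by rw [hPc, ← Matrix.map_mul, h]
  have hk : Pk * Pk = Pk := by rw [hPk, ← Matrix.map_mul, h]
  have hrc : Pc.rank = r := by exact_mod_cast (natCast_rank_eq_trace hc).trans hr
  have h1 := rank_map_res_le P
  have h2 := rank_map_res_le (1 - P)
  rw [Matrix.map_sub _ (map_sub _), Matrix.map_sub _ (map_sub _),
    Matrix.map_one _ (map_zero _) (map_one _), Matrix.map_one _ (map_zero _) (map_one _)] at h2
  have h3 := rank_add_rank_one_sub hk
  have h4 := rank_add_rank_one_sub hc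
  rw [← hPc, ← hPk] at h1 h2
  omega

variable {G : Type*} [Group G] [Fintype G]

/-- `blockCoeff`, in the local ring. -/
noncomputable def coeffO {B : Set (IrrCharacter G)} (hB : IsPBlock M B) (g : G) : localRing M :=
  ⟨blockCoeff B g, memLocalRing_blockCoeff hB g⟩

theorem res_coeffO {B : Set (IrrCharacter G)} (hB : IsPBlock M B) (g : G) :
    res M (coeffO hB g) = (topEl M B).coeff g := by
  rw [coeff_topEl, redC_of_mem]
  rfl

variable {B : Set (IrrCharacter G)}

theorem sum_coeffO_mul (hB : IsPBlock M B) (g : G) :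
    ∑ x, blockCoeff B x * blockCoeff B (x⁻¹ * g) = blockCoeff B g := by
  have h := congrArg (fun z : GA G => z.coeff g) (setIdem_mul_self B)
  simp only [coeff_mul_eq_sum] at h
  simpa [setIdem, coeff_ofFun] using h

/-- Right multiplication by the idempotent. -/
noncomputable def algMatrix (hB : IsPBlock M B) : Matrix G G (localRing M) :=
  fun g h => coeffO hB (h⁻¹ * g)

theorem algMatrix_mul_self (hB : IsPBlock M B) : algMatrix hB * algMatrix hB = algMatrix hB := by
  apply Matrix.map_injective (localRing M).subtype_injective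
  dsimp only
  rw [Matrix.map_mul]
  ext g h
  show ∑ x, blockCoeff B (x⁻¹ * g) * blockCoeff B (h⁻¹ * x) = blockCoeff B (h⁻¹ * g)
  rw [← sum_coeffO_mul hB (h⁻¹ * g)]
  refine Fintype.sum_equiv (Equiv.mulLeft h⁻¹) _ _ fun x => ?_
  rw [Equiv.coe_mulLeft, mul_comm]
  congr 2
  group

theorem trace_algMatrix (hB : IsPBlock M B) :
    ((algMatrix hB).map (localRing M).subtype).trace =
      ((∑ χ ∈ B.toFinite.toFinset, charDegree (χ : G → ℂ) ^ 2 : ℕ) : ℂ) := by
  show ∑ g : G, blockCoeff B (g⁻¹ * g) = _
  simp only [inv_mul_cancel, Finset.sum_const, Finset.card_univ, nsmul_eq_mul,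
    ← Nat.card_eq_fintype_card]
  rw [blockCoeff, finsum_block_eq_sum, ← mul_assoc,
    mul_inv_cancel₀ (by exact_mod_cast Nat.card_pos.ne'), one_mul]
  push_cast
  refine Finset.sum_congr rfl fun χ _ => ?_
  rw [← Chars.coe_charDegree, Complex.conj_natCast]
  ring

open scoped Classical in
/-- Multiplication by the idempotent on class functions. -/
noncomputable def centreMatrix [Fintype (ConjClasses G)] (hB : IsPBlock M B) :
    Matrix (ConjClasses G) (ConjClasses G) (localRing M) :=
  fun C D => ∑ x : G, if ConjClasses.mk (x⁻¹ * C.out) = D then coeffO hB x else 0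

open scoped Classical in
theorem centreMatrix_mulVec [Fintype (ConjClasses G)] (hB : IsPBlock M B) {R : Type*} [CommRing R]
    (f : localRing M →+* R) (u : ConjClasses G → R) (C : ConjClasses G) :
    ((centreMatrix hB).map f).mulVec u C =
      ∑ x : G, f (coeffO hB x) * u (ConjClasses.mk (x⁻¹ * C.out)) := by
  simp only [Matrix.mulVec, dotProduct, Matrix.map_apply, centreMatrix, map_sum, Finset.sum_mul]
  rw [Finset.sum_comm]
  refine Finset.sum_congr rfl fun x _ => ?_
  simp [apply_ite f, ite_mul]

/-- Multiplication of a class function by the idempotent gives a class function. -/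
theorem sum_coeffO_class (hB : IsPBlock M B) {R : Type*} [CommRing R] (f : localRing M →+* R)
    (u : ConjClasses G → R) (g : G) :
    ∑ x : G, f (coeffO hB x) * u (ConjClasses.mk (x⁻¹ * g)) =
      ∑ x : G, f (coeffO hB x) * u (ConjClasses.mk (x⁻¹ * (ConjClasses.mk g).out)) := by
  have hc : IsConj g (ConjClasses.mk g).out :=
    ConjClasses.mk_eq_mk_iff_isConj.mp (Quotient.out_eq (ConjClasses.mk g)).symm
  obtain ⟨c, hc⟩ := isConj_iff.mp hc
  refine Fintype.sum_equiv (MulAut.conj c).toEquiv _ _ fun x => ?_
  show _ = f (coeffO hB (c * x * c⁻¹)) * _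
  have h1 : coeffO hB (c * x * c⁻¹) = coeffO hB x :=
    Subtype.ext (blockCoeff_conj_invariant B x c)
  rw [h1]
  congr 2
  rw [ConjClasses.mk_eq_mk_iff_isConj]
  refine isConj_iff.mpr ⟨c, ?_⟩
  show _ = (c * x * c⁻¹)⁻¹ * _
  rw [← hc]
  group

theorem centreMatrix_mul_self [Fintype (ConjClasses G)] [DecidableEq (ConjClasses G)]
    (hB : IsPBlock M B) :
    centreMatrix hB * centreMatrix hB = centreMatrix hB := by
  apply Matrix.map_injective (localRing M).subtype_injective
  dsimp only
  rw [Matrix.map_mul]
  refine Matrix.ext_of_mulVec_single fun D => ?_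
  set u : ConjClasses G → ℂ := Pi.single D 1
  funext C
  rw [← Matrix.mulVec_mulVec, centreMatrix_mulVec, centreMatrix_mulVec]
  simp only [centreMatrix_mulVec, ← sum_coeffO_class hB (localRing M).subtype u, Finset.mul_sum]
  show ∑ x : G, ∑ y : G, blockCoeff B x * (blockCoeff B y * u (ConjClasses.mk (y⁻¹ * (x⁻¹ * C.out)))) =
    ∑ z : G, blockCoeff B z * u (ConjClasses.mk (z⁻¹ * C.out))
  calc _ = ∑ x : G, ∑ z : G,
        blockCoeff B x * (blockCoeff B (x⁻¹ * z) * u (ConjClasses.mk (z⁻¹ * C.out))) := by
        refine Finset.sum_congr rfl fun x _ => ?_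
        refine Fintype.sum_equiv (Equiv.mulLeft x) _ _ fun y => ?_
        simp [mul_assoc]
    _ = _ := by
        rw [Finset.sum_comm]
        refine Finset.sum_congr rfl fun z _ => ?_
        conv_rhs => rw [← sum_coeffO_mul hB z, Finset.sum_mul]
        exact Finset.sum_congr rfl fun x _ => by ring

open scoped Classical in
theorem trace_centreMatrix [Fintype (ConjClasses G)] (hB : IsPBlock M B) :
    ((centreMatrix hB).map (localRing M).subtype).trace = ((Nat.card B : ℕ) : ℂ) := by
  have hn : (Nat.card G : ℂ) ≠ 0 := by exact_mod_cast Nat.card_pos.ne'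
  set S := B.toFinite.toFinset
  -- sums over a translated class
  have hclass : ∀ (χ : IrrCharacter G) (g h : G),
      ∑ y : G, (if IsConj g y then (χ : G → ℂ) (y * h) else 0) * (χ : G → ℂ) 1 =
        (∑ y : G, if IsConj g y then (χ : G → ℂ) y else 0) * (χ : G → ℂ) h := by
    intro χ g h
    have h1 := omega_mul χ.2 (isCentralElt_classSum g) (MonoidAlgebra.single h (1 : ℂ))
    simp only [omega_apply, MonoidAlgebra.coeff_mul_single_apply, coeff_classSum,
      MonoidAlgebra.coeff_single, mul_one] at h1
    rw [Finset.sum_eq_single h (f := fun x => (Finsupp.single h (1 : ℂ)) x * _ / _)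
      (fun x _ hx => by simp [Finsupp.single_eq_of_ne hx]) (by simp), Finsupp.single_eq_same,
      one_mul] at h1
    have e1 : ∑ x : G, (if IsConj g (x * h⁻¹) then (1 : ℂ) else 0) * (χ : G → ℂ) x /
        (χ : G → ℂ) 1 = ∑ y : G, (if IsConj g y then (χ : G → ℂ) (y * h) else 0) / (χ : G → ℂ) 1 := by
      refine (Fintype.sum_equiv (Equiv.mulRight h) _ _ fun y => ?_).symm
      simp [ite_mul]
    replace h1 := e1.symm.trans (Eq.trans (Finset.sum_congr rfl fun x _ => by split_ifs <;> rfl) h1)
    rw [← Finset.sum_div, ← Finset.sum_div] at h1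
    have h1' := Chars.map_one_ne_zero χ
    field_simp at h1
    rw [← Finset.sum_mul]
    simp only [ite_mul, one_mul, zero_mul] at h1 ⊢
    linear_combination h1
  have hdiag : ∀ C : ConjClasses G,
      ((centreMatrix hB).map (localRing M).subtype) C C = ∑ χ ∈ S, (Nat.card G : ℂ)⁻¹ *
        ∑ y : G, if ConjClasses.mk y = C then (χ : G → ℂ) y * (χ : G → ℂ) y⁻¹ else 0 := by
    intro C
    show (localRing M).subtype (∑ x : G, _) = _
    rw [map_sum]
    calc _ = ∑ y : G, if IsConj C.out y then blockCoeff B (C.out * y⁻¹) else 0 := by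
          refine Fintype.sum_equiv ((Equiv.inv G).trans (Equiv.mulRight C.out)) _ _ fun x => ?_
          rw [apply_ite (localRing M).subtype, map_zero]
          simp only [Equiv.trans_apply, Equiv.inv_apply, Equiv.coe_mulRight]
          refine if_congr ?_ ?_ rfl
          · conv_lhs => rw [← (show ConjClasses.mk C.out = C from Quotient.out_eq C)]
            rw [ConjClasses.mk_eq_mk_iff_isConj, isConj_comm]
            rw [show (ConjClasses.mk C.out).out = C.out by
              rw [show ConjClasses.mk C.out = C from Quotient.out_eq C]]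
          · show blockCoeff B x = _
            congr 1
            group
      _ = ∑ χ ∈ S, (Nat.card G : ℂ)⁻¹ *
          ((∑ y : G, if IsConj C.out y then (χ : G → ℂ) (y * C.out⁻¹) else 0) * (χ : G → ℂ) 1) := by
          simp only [blockCoeff, finsum_block_eq_sum, Finset.mul_sum, Finset.sum_mul]
          rw [Finset.sum_comm]
          refine Finset.sum_congr rfl fun y _ => ?_
          split_ifs with hy
          · refine Finset.sum_congr rfl fun χ _ => ?_
            rw [← Chars.map_inv_eq_conj (Chars.isCharacter_coe χ), mul_inv_rev, inv_inv]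
            ring
          · simp
      _ = _ := by
          refine Finset.sum_congr rfl fun χ _ => ?_
          rw [Finset.sum_mul, hclass, Finset.sum_mul]
          congr 1
          refine Finset.sum_congr rfl fun y _ => ?_
          have hiff : ConjClasses.mk y = C ↔ IsConj C.out y := by
            conv_lhs => rw [← (show ConjClasses.mk C.out = C from Quotient.out_eq C)]
            rw [ConjClasses.mk_eq_mk_iff_isConj, isConj_comm]
          by_cases hy : IsConj C.out y
          · rw [if_pos hy, if_pos (hiff.mpr hy)]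
            obtain ⟨c, hc⟩ := isConj_iff.mp hy
            congr 1
            rw [← hc, show (c * C.out * c⁻¹)⁻¹ = c * C.out⁻¹ * c⁻¹ by group, irrCharacter_conj]
          · rw [if_neg hy, if_neg (mt hiff.mp hy), zero_mul]
  show ∑ C, ((centreMatrix hB).map (localRing M).subtype) C C = _
  rw [Finset.sum_congr rfl fun C _ => hdiag C, Finset.sum_comm]
  have hone : ∀ χ : IrrCharacter G, ∑ C : ConjClasses G, (Nat.card G : ℂ)⁻¹ *
      (∑ y : G, if ConjClasses.mk y = C then (χ : G → ℂ) y * (χ : G → ℂ) y⁻¹ else 0) = 1 := by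
    intro χ
    rw [← Finset.mul_sum, Finset.sum_comm]
    simp only [Finset.sum_ite_eq, Finset.mem_univ, if_true]
    rw [sum_mul_inv_eq χ χ, if_pos rfl, inv_mul_cancel₀ hn]
  rw [Finset.sum_congr rfl fun χ _ => hone χ, Finset.sum_const, nsmul_one,
    Nat.card_coe_set_eq, Set.ncard_eq_toFinset_card B B.toFinite]

section quotient

variable (e : (kres M)[G])

/-- The left ideal of the elements killed by `e`. -/
def killIdeal : Ideal (kres M)[G] where
  carrier := {a | a * e = 0}
  zero_mem' := zero_mul e
  add_mem' := fun {a b} ha hb => by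
    show (a + b) * e = 0
    rw [add_mul, ha, hb, add_zero]
  smul_mem' := fun c {a} ha => by
    show c * a * e = 0
    rw [mul_assoc, ha, mul_zero]

theorem mem_killIdeal {a : (kres M)[G]} : a ∈ killIdeal e ↔ a * e = 0 := Iff.rfl

end quotient

/-- A block with two characters has degrees whose squares sum to twice a square. -/
theorem exists_sum_degree_sq_eq (hB : IsPBlock M B) (hcard : Nat.card B = 2) :
    ∃ n : ℕ, n ≠ 0 ∧ ∑ χ ∈ B.toFinite.toFinset, charDegree (χ : G → ℂ) ^ 2 = 2 * n ^ 2 := by
  classical
  haveI : Fintype (ConjClasses G) := Fintype.ofFinite _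
  haveI : FiniteDimensional (kres M) (kres M)[G] :=
    Module.Finite.equiv (MonoidAlgebra.coeffLinearEquiv (kres M) (M := G)).symm
  set e := topEl M B with hedef
  have he : IsBlockIdem ⊤ e := isBlockIdem_topEl hB
  have hecomm : ∀ a, e * a = a * e := fun a =>
    (commute_of_isFixedBy (isSupportedOn_top a) he.1.2).symm.eq
  haveI : (killIdeal e).IsTwoSided := ⟨fun {a} b ha => by
    rw [mem_killIdeal] at ha ⊢
    rw [mul_assoc, ← hecomm, ← mul_assoc, ha, zero_mul]⟩
  let mk := Ideal.Quotient.mkₐ (kres M) (killIdeal e)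
  have hmk : Function.Surjective mk := Ideal.Quotient.mkₐ_surjective _ _
  haveI : FiniteDimensional (kres M) ((kres M)[G] ⧸ killIdeal e) :=
    Module.Finite.of_surjective mk.toLinearMap hmk
  have hmk_eq : ∀ a b, mk a = mk b ↔ a * e = b * e := fun a b => by
    rw [show mk a = Ideal.Quotient.mk (killIdeal e) a from rfl,
      show mk b = Ideal.Quotient.mk (killIdeal e) b from rfl, Ideal.Quotient.eq, mem_killIdeal,
      sub_mul, sub_eq_zero]
  haveI : Nontrivial ((kres M)[G] ⧸ killIdeal e) := ⟨⟨mk 1, mk 0, fun h => he.ne_zero (by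
    simpa using (hmk_eq 1 0).mp h)⟩⟩
  obtain ⟨s, hs⟩ := mk.toLinearMap.exists_rightInverse_of_surjective (LinearMap.range_eq_top.mpr hmk)
  let t : ((kres M)[G] ⧸ killIdeal e) →ₗ[kres M] kres M :=
    ((Finsupp.lapply (1 : G)) ∘ₗ (MonoidAlgebra.coeffLinearEquiv (kres M)).toLinearMap ∘ₗ
      LinearMap.mulRight (kres M) e) ∘ₗ s
  have ht : ∀ a, t (mk a) = (a * e).coeff 1 := fun a => by
    show (s (mk a) * e).coeff 1 = _
    rw [(hmk_eq _ a).mp (LinearMap.congr_fun hs (mk a))]
  have hswap : ∀ a b : (kres M)[G], (a * b).coeff 1 = (b * a).coeff 1 := by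
    intro a b
    rw [MonoidAlgebra.coeff_mul_apply_left, MonoidAlgebra.coeff_mul_apply_right,
      Finsupp.sum_fintype _ _ (fun _ => zero_mul _), Finsupp.sum_fintype _ _ (fun _ => mul_zero _)]
    refine Finset.sum_congr rfl fun x _ => ?_
    rw [mul_one, one_mul, mul_comm]
  have hsymm : ∀ a b, t (a * b) = t (b * a) := by
    intro a b
    obtain ⟨a, rfl⟩ := hmk a
    obtain ⟨b, rfl⟩ := hmk b
    rw [← map_mul, ← map_mul, ht, ht, mul_assoc, hswap, mul_assoc, hecomm, ← mul_assoc]
  have hnd : ∀ a, (∀ b, t (a * b) = 0) → a = 0 := by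
    intro a
    obtain ⟨a, rfl⟩ := hmk a
    intro h
    rw [← map_zero mk, hmk_eq, zero_mul]
    refine MonoidAlgebra.ext (Finsupp.ext fun g => ?_)
    have := h (mk (MonoidAlgebra.single g⁻¹ 1))
    rw [← map_mul, ht, mul_assoc, ← hecomm, ← mul_assoc, MonoidAlgebra.coeff_mul_single_apply] at this
    simpa using this
  -- the algebra
  let iso : (G → kres M) ≃ₗ[kres M] (kres M)[G] :=
    (Finsupp.linearEquivFunOnFinite (kres M) (kres M) G).symm.trans
      (MonoidAlgebra.coeffLinearEquiv (kres M)).symm
  have hiso : ∀ u g, (iso u).coeff g = u g := fun u g => rfl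
  have hmat : ∀ u g, ((algMatrix hB).map (res M)).mulVec u g = (iso u * e).coeff g := by
    intro u g
    rw [MonoidAlgebra.coeff_mul_apply_left, Finsupp.sum_fintype _ _ (fun _ => zero_mul _)]
    refine Finset.sum_congr rfl fun x _ => ?_
    show res M (coeffO hB (x⁻¹ * g)) * u x = _
    rw [res_coeffO, hiso, mul_comm, hedef]
  have hdimR : finrank (kres M) ((kres M)[G] ⧸ killIdeal e) =
      ∑ χ ∈ B.toFinite.toFinset, charDegree (χ : G → ℂ) ^ 2 := by
    rw [← rank_map_res_eq (algMatrix_mul_self hB) (trace_algMatrix hB)]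
    let Ψ : (G → kres M) →ₗ[kres M] ((kres M)[G] ⧸ killIdeal e) := mk.toLinearMap ∘ₗ iso.toLinearMap
    have hΨ : Function.Surjective Ψ := hmk.comp iso.surjective
    have hker : LinearMap.ker Ψ = LinearMap.ker ((algMatrix hB).map (res M)).mulVecLin := by
      ext u
      rw [LinearMap.mem_ker, LinearMap.mem_ker, Matrix.mulVecLin_apply]
      show mk (iso u) = 0 ↔ _
      rw [← map_zero mk, hmk_eq, zero_mul]
      constructor
      · intro h; funext g; rw [hmat, h]; rfl
      · intro h; exact MonoidAlgebra.ext (Finsupp.ext fun g => by rw [← hmat, h]; rfl)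
    have h1 := LinearMap.finrank_range_add_finrank_ker Ψ
    have h2 := LinearMap.finrank_range_add_finrank_ker ((algMatrix hB).map (res M)).mulVecLin
    rw [LinearMap.range_eq_top.mpr hΨ, finrank_top, hker] at h1
    rw [Matrix.rank]
    omega
  -- the centre
  let cls : (ConjClasses G → kres M) →ₗ[kres M] (kres M)[G] :=
    iso.toLinearMap ∘ₗ LinearMap.funLeft (kres M) (kres M) ConjClasses.mk
  have hcls : ∀ u g, (cls u).coeff g = u (ConjClasses.mk g) := fun u g => rfl
  have hclsc : ∀ u, cls u ∈ centerIn (kres M) ⊤ := fun u =>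
    ⟨isSupportedOn_top _, fun x _ g => by
      rw [hcls, hcls, ConjClasses.mk_eq_mk_iff_isConj.mpr
        (isConj_iff.mpr ⟨x, rfl⟩ : IsConj g (x * g * x⁻¹))]⟩
  have hclsmat : ∀ u g, (e * cls u).coeff g =
      ((centreMatrix hB).map (res M)).mulVec u (ConjClasses.mk g) := by
    intro u g
    rw [centreMatrix_mulVec, ← sum_coeffO_class, MonoidAlgebra.coeff_mul_apply_left,
      Finsupp.sum_fintype _ _ (fun _ => zero_mul _)]
    exact Finset.sum_congr rfl fun x _ => by rw [res_coeffO, hcls]
  have hdimZ : finrank (kres M) (Subalgebra.center (kres M) ((kres M)[G] ⧸ killIdeal e)) = 2 := by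
    let Ψ : (ConjClasses G → kres M) →ₗ[kres M] ((kres M)[G] ⧸ killIdeal e) :=
      mk.toLinearMap ∘ₗ cls
    have hrange : LinearMap.range Ψ =
        (Subalgebra.center (kres M) ((kres M)[G] ⧸ killIdeal e)).toSubmodule := by
      refine le_antisymm ?_ fun z hz => ?_
      · rintro _ ⟨u, rfl⟩
        refine (Subalgebra.mem_center_iff (R := kres M)).mpr fun b => ?_
        obtain ⟨b, rfl⟩ := hmk b
        show mk b * mk (cls u) = mk (cls u) * mk b
        rw [← map_mul, ← map_mul, (commute_of_isFixedBy (isSupportedOn_top b) (hclsc u).2).eq]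
      · obtain ⟨a, rfl⟩ := hmk z
        have hc : ∀ b, b * (a * e) = a * e * b := by
          intro b
          have h := (Subalgebra.mem_center_iff (R := kres M)).mp hz (mk b)
          rw [← map_mul, ← map_mul, hmk_eq] at h
          rw [← mul_assoc, h, mul_assoc, mul_assoc, hecomm]
        have hcoe := coeff_conj_of_mem_center (M := M) (x := a * e)
          ((Subalgebra.mem_center_iff (R := kres M)).mpr hc)
        refine ⟨fun C => (a * e).coeff C.out, ?_⟩
        show mk (cls _) = mk a
        rw [hmk_eq]
        have hae : cls (fun C => (a * e).coeff C.out) = a * e := by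
          refine MonoidAlgebra.ext (Finsupp.ext fun g => ?_)
          rw [hcls]
          obtain ⟨c, hc⟩ := isConj_iff.mp (ConjClasses.mk_eq_mk_iff_isConj.mp
            (Quotient.out_eq (ConjClasses.mk g)))
          conv_rhs => rw [← hc]
          exact (hcoe _ c).symm
        rw [hae, mul_assoc, he.idem]
    have hker : LinearMap.ker Ψ = LinearMap.ker ((centreMatrix hB).map (res M)).mulVecLin := by
      ext u
      rw [LinearMap.mem_ker, LinearMap.mem_ker, Matrix.mulVecLin_apply]
      show mk (cls u) = 0 ↔ _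
      rw [← map_zero mk, hmk_eq, zero_mul, ← hecomm]
      constructor
      · intro h
        funext C
        have := congrArg (fun a : (kres M)[G] => a.coeff C.out) h
        simp only [hclsmat] at this
        rwa [show ConjClasses.mk C.out = C from Quotient.out_eq C] at this
      · intro h; exact MonoidAlgebra.ext (Finsupp.ext fun g => by rw [hclsmat, h]; rfl)
    have h1 := LinearMap.finrank_range_add_finrank_ker Ψ
    have h2 := LinearMap.finrank_range_add_finrank_ker ((centreMatrix hB).map (res M)).mulVecLin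
    have h3 := rank_map_res_eq (centreMatrix_mul_self hB) (trace_centreMatrix hB)
    rw [hrange, hker] at h1
    rw [Matrix.rank] at h3
    have h4 : finrank (kres M) (Subalgebra.center (kres M) ((kres M)[G] ⧸ killIdeal e)) =
      finrank (kres M)
        (Subalgebra.center (kres M) ((kres M)[G] ⧸ killIdeal e)).toSubmodule := rfl
    omega
  have hI : ∀ z ∈ Subalgebra.center (kres M) ((kres M)[G] ⧸ killIdeal e),
      z * z = z → z = 0 ∨ z = 1 := by
    intro z hz hzz
    obtain ⟨a, rfl⟩ := hmk z
    set c := a * e with hc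
    have hcc : c * c = c := by
      rw [← map_mul, hmk_eq] at hzz
      rw [hc]
      conv_lhs => rw [mul_assoc, ← mul_assoc e a e, hecomm a, mul_assoc a e e, he.idem, ← mul_assoc,
        hzz]
    have hcC : c ∈ centerIn (kres M) ⊤ := by
      refine ⟨isSupportedOn_top _, fun x _ g => ?_⟩
      refine coeff_conj_of_mem_center (M := M) (x := c)
        ((Subalgebra.mem_center_iff (R := kres M)).mpr fun b => ?_) g x
      have h := (Subalgebra.mem_center_iff (R := kres M)).mp hz (mk b)
      rw [← map_mul, ← map_mul, hmk_eq] at h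
      rw [hc, ← mul_assoc, h, mul_assoc, mul_assoc, hecomm]
    have hce : c * e = c := by rw [hc, mul_assoc, he.idem]
    rcases he.2.2.2 c hcC hcc with h | h
    · left
      rw [← map_zero mk, hmk_eq, zero_mul, ← hc, ← hce, h]
    · right
      rw [← map_one mk, hmk_eq, one_mul, ← hc, ← hce, h]
  obtain ⟨n, hn, hdim⟩ := exists_finrank_eq_two_mul_sq hsymm hnd hdimZ hI
  exact ⟨n, hn, by rw [← hdimR, hdim]⟩

end CfsgLib.Blocks.TwoChars
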