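import Mathlib.RingTheory.SimpleModule.IsAlgClosed
import Mathlib.RingTheory.Artinian.Ring
import Mathlib.RingTheory.Artinian.Algebra
import Mathlib.RingTheory.HopkinsLevitzki
import Mathlib.RingTheory.Idempotents
import Mathlib.RingTheory.Ideal.Quotient.Operations
import Mathlib.Algebra.Central.Matrix
import Mathlib.Algebra.Central.Basic
import Mathlib.LinearAlgebra.Trace
import Mathlib.LinearAlgebra.Dual.Lemmas
import Mathlib.LinearAlgebra.Matrix.Trace

/-!
# Symmetric algebras with a centre of dimension two

A symmetric algebra over an algebraically closed field whose centre has dimension two and no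
idempotent other than `0` and `1` is local up to Morita equivalence with radical of square zero,
so its dimension is twice a square.
-/

set_option autoImplicit false

namespace CfsgLib.Blocks.TwoChars

open Module

variable {k : Type*} [Field k] {R : Type*} [Ring R] [Algebra k R]

/-- The span of the commutators. -/
def commSpan (k : Type*) [Field k] (R : Type*) [Ring R] [Algebra k R] : Submodule k R :=
  Submodule.span k (Set.range fun x : R × R => x.1 * x.2 - x.2 * x.1)

theorem mem_annihilator_commSpan {l : Module.Dual k R} :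
    l ∈ (commSpan k R).dualAnnihilator ↔ ∀ a b, l (a * b) = l (b * a) := by
  rw [Submodule.mem_dualAnnihilator]
  constructor
  · intro h a b
    have := h _ (Submodule.subset_span ⟨(a, b), rfl⟩)
    rwa [map_sub, sub_eq_zero] at this
  · intro h x hx
    induction hx using Submodule.span_induction with
    | mem x hx =>
      obtain ⟨⟨a, b⟩, rfl⟩ := hx
      simp only [map_sub, h a b, sub_self]
    | zero => exact map_zero _
    | add x y _ _ hx hy => rw [map_add, hx, hy, add_zero]
    | smul c x _ hx => rw [map_smul, hx, smul_zero]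

variable [FiniteDimensional k R] (t : R →ₗ[k] k)

/-- The pairing map of a form. -/
noncomputable def pairing : R →ₗ[k] Module.Dual k R :=
  (LinearMap.mul k R).compr₂ t

theorem pairing_apply (a b : R) : pairing t a b = t (a * b) := rfl

variable {t} (hsymm : ∀ a b, t (a * b) = t (b * a)) (hnd : ∀ a, (∀ b, t (a * b) = 0) → a = 0)
include hsymm hnd

theorem pairing_bijective : Function.Bijective (pairing t) := by
  have hinj : Function.Injective (pairing t) := by
    rw [← LinearMap.ker_eq_bot, LinearMap.ker_eq_bot']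
    exact fun a ha => hnd a fun b => by rw [← pairing_apply t, ha]; rfl
  exact ⟨hinj, (LinearMap.injective_iff_surjective_of_finrank_eq_finrank
    Subspace.dual_finrank_eq.symm).mp hinj⟩

/-- Symmetric functionals correspond to the centre. -/
theorem finrank_annihilator_commSpan :
    finrank k (commSpan k R).dualAnnihilator = finrank k (Subalgebra.center k R) := by
  have hb := pairing_bijective hsymm hnd
  have hmap : (Subalgebra.center k R).toSubmodule.map (pairing t) =
      (commSpan k R).dualAnnihilator := by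
    refine le_antisymm ?_ fun l hl => ?_
    · rintro _ ⟨z, hz, rfl⟩
      rw [mem_annihilator_commSpan]
      intro a b
      have hc := (Subalgebra.mem_center_iff (R := k)).mp hz a
      rw [pairing_apply t, pairing_apply t, ← mul_assoc, ← hc, mul_assoc, hsymm, mul_assoc]
    · obtain ⟨z, rfl⟩ := hb.2 l
      refine ⟨z, (Subalgebra.mem_center_iff (R := k)).mpr fun a => ?_, rfl⟩
      rw [mem_annihilator_commSpan] at hl
      refine sub_eq_zero.mp (hnd _ fun b => ?_)
      have h1 := hl a b
      rw [pairing_apply t, pairing_apply t, hsymm z (b * a), mul_assoc b a z, hsymm b (a * z)] at h1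
      rw [sub_mul, map_sub, sub_eq_zero, mul_assoc z a b, h1]
  rw [← hmap]
  exact ((Subalgebra.center k R).toSubmodule.equivMapOfInjective _ hb.1).finrank_eq.symm

/-- A two-sided set killed by the form is zero. -/
theorem eq_zero_of_mul_mem {P : Submodule k R} (hP : ∀ x ∈ P, ∀ r, x * r ∈ P)
    (ht : ∀ x ∈ P, t x = 0) {x : R} (hx : x ∈ P) : x = 0 :=
  hnd x fun b => ht _ (hP x hx b)

omit hsymm hnd in
/-- A symmetric functional killing the products of two elements of the radical and not the
radical. -/
theorem exists_symm_functional [Nontrivial R] {n : ℕ} [NeZero n]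
    (π : R →ₐ[k] Matrix (Fin n) (Fin n) k) (hπ : Function.Surjective π)
    (hker : ∀ x, π x = 0 ↔ x ∈ Ring.jacobson R) (hJ : Ring.jacobson R ≠ ⊥) :
    ∃ φ : Module.Dual k R, (∀ a b, φ (a * b) = φ (b * a)) ∧
      (∀ x ∈ Ring.jacobson R, ∀ y ∈ Ring.jacobson R, φ (x * y) = 0) ∧
      ∃ v ∈ Ring.jacobson R, φ v ≠ 0 := by
  classical
  haveI := IsArtinianRing.of_finite k R
  set J := Ring.jacobson R with hJdef
  have hnil : IsNilpotent J := IsSemiprimaryRing.isNilpotent
  have hnil' : ∀ x ∈ J, IsNilpotent x := fun x hx => by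
    obtain ⟨N, hN⟩ := hnil
    exact ⟨N, by simpa [hN] using Ideal.pow_mem_pow hx N⟩
  obtain ⟨e, he, hπe⟩ := exists_isIdempotentElem_eq_of_ker_isNilpotent π.toRingHom
    (fun x hx => hnil' x ((hker x).mp hx)) (Matrix.single 0 0 (1 : k)) (hπ _)
    (by simp [IsIdempotentElem])
  replace hπe : π e = Matrix.single 0 0 (1 : k) := hπe
  -- the ideal generated by `e` is everything
  choose X hX using fun l : Fin n => hπ (Matrix.single l 0 (1 : k))
  choose Y hY using fun l : Fin n => hπ (Matrix.single 0 l (1 : k))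
  set S := ∑ l, X l * e * Y l with hS
  have hS1 : π S = 1 := by
    rw [hS, map_sum]
    simp only [map_mul, hX, hY, hπe, Matrix.single_mul_single_same, mul_one]
    rw [← Matrix.diagonal_one, ← Matrix.sum_single_eq_diagonal]
  obtain ⟨U, hU⟩ : IsUnit S := by
    have h : IsNilpotent (1 - S) := hnil' _ ((hker _).mp (by rw [map_sub, map_one, hS1, sub_self]))
    simpa using h.isUnit_one_sub
  set x : Fin n → R := fun l => (↑U⁻¹ : R) * X l with hxdef
  have hone : ∑ l, x l * e * Y l = 1 := by
    simp only [hxdef, mul_assoc, ← Finset.mul_sum]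
    simp only [← mul_assoc (X _)]
    rw [← hS, ← hU, Units.inv_mul]
  -- the products of two elements of the radical
  set P : Submodule k R :=
    Submodule.span k (Set.range fun z : J × J => (z.1 : R) * (z.2 : R)) with hP
  have hPmem : ∀ a ∈ J, ∀ b ∈ J, a * b ∈ P := fun a ha b hb =>
    Submodule.subset_span ⟨(⟨a, ha⟩, ⟨b, hb⟩), rfl⟩
  have hPtwo : ∀ a b, ∀ z ∈ P, a * z * b ∈ P := by
    intro a b z hz
    induction hz using Submodule.span_induction with
    | mem z hz =>
      obtain ⟨⟨u, w⟩, rfl⟩ := hz
      show a * ((u : R) * w) * b ∈ P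
      rw [show a * ((u : R) * w) * b = (a * u) * (w * b) by simp only [mul_assoc]]
      exact hPmem _ (J.mul_mem_left a u.2) _ (J.mul_mem_right b w.2)
    | zero => simp
    | add z z' _ _ hz hz' => rw [mul_add, add_mul]; exact P.add_mem hz hz'
    | smul c z _ hz => rw [mul_smul_comm, smul_mul_assoc]; exact P.smul_mem c hz
  have hcorner : ∃ j ∈ J, e * j * e ∉ P := by
    by_contra hcon
    simp only [not_exists, not_and, not_not] at hcon
    have hJP : ∀ j ∈ J, j ∈ P := by
      intro j hj
      have : j = ∑ l, ∑ m, x l * (e * (Y l * j * x m) * e) * Y m := by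
        calc j = (∑ l, x l * e * Y l) * j * (∑ m, x m * e * Y m) := by
              rw [hone, one_mul, mul_one]
          _ = _ := by
              rw [Finset.sum_mul, Finset.sum_mul]
              refine Finset.sum_congr rfl fun l _ => ?_
              rw [Finset.mul_sum]
              exact Finset.sum_congr rfl fun m _ => by simp only [mul_assoc]
      rw [this]
      exact P.sum_mem fun l _ => P.sum_mem fun m _ =>
        hPtwo _ _ _ (hcon _ (J.mul_mem_right _ (J.mul_mem_left _ hj)))
    have hJJ : J ≤ J * J := by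
      intro j hj
      have h := hJP j hj
      have hle : P ≤ (J * J).restrictScalars k := Submodule.span_le.mpr (by
        rintro _ ⟨⟨u, w⟩, rfl⟩
        exact Ideal.mul_mem_mul u.2 w.2)
      exact hle h
    obtain ⟨N, hN⟩ := hnil
    have hpow : ∀ m : ℕ, J ≤ J ^ (m + 1) := by
      intro m
      induction m with
      | zero => rw [zero_add, Submodule.pow_one]
      | succ m ih =>
        refine hJJ.trans ?_
        rw [Submodule.pow_succ' J (Nat.succ_ne_zero m)]
        exact Ideal.mul_mono_right ih
    apply hJ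
    rcases Nat.eq_zero_or_pos N with rfl | hpos
    · rw [Submodule.pow_zero] at hN
      exact le_bot_iff.mp fun j _ => by
        have : (1 : R) ∈ (1 : Ideal R) := by rw [Ideal.one_eq_top]; trivial
        rw [hN] at this
        exact absurd this one_ne_zero
    · refine le_bot_iff.mp ((hpow (N - 1)).trans ?_)
      rw [Nat.sub_add_cancel hpos, hN]
      exact le_rfl
  obtain ⟨j₀, hj₀, hv⟩ := hcorner
  set v := e * j₀ * e with hvdef
  have hvJ : v ∈ J := J.mul_mem_right _ (J.mul_mem_left _ hj₀)
  obtain ⟨ψ, hψv, hψP⟩ := Submodule.exists_dual_map_eq_bot_of_notMem hv inferInstance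
  have hψ0 : ∀ z ∈ P, ψ z = 0 := fun z hz => by
    have : ψ z ∈ P.map ψ := ⟨z, hz, rfl⟩
    rwa [hψP, Submodule.mem_bot] at this
  have hee : ∀ z, e * (e * z) = e * z := fun z => by rw [← mul_assoc, he.eq]
  -- the corner is commutative modulo `P`
  have hcomm : ∀ a b, ψ ((e * a * e) * (e * b * e)) = ψ ((e * b * e) * (e * a * e)) := by
    intro a b
    have hdec : ∀ a, ∃ c : k, e * a * e - c • e ∈ J := by
      intro a
      refine ⟨π a 0 0, (hker _).mp ?_⟩
      rw [map_sub, map_smul, map_mul, map_mul, hπe]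
      refine sub_eq_zero.mpr ?_
      ext i j
      by_cases hi : i = 0 <;> by_cases hj : j = 0 <;>
        simp [hi, hj, Matrix.mul_apply, Matrix.single_apply, eq_comm]
    obtain ⟨c, hc⟩ := hdec a
    obtain ⟨d, hd⟩ := hdec b
    set u := e * a * e - c • e with hu
    set w := e * b * e - d • e with hw
    have hel : ∀ a : R, e * (e * a * e) = e * a * e := fun a => by
      simp only [← mul_assoc, he.eq]
    have her : ∀ a : R, (e * a * e) * e = e * a * e := fun a => by
      simp only [mul_assoc, he.eq]
    have heu : e * u = u ∧ u * e = u ∧ e * w = w ∧ w * e = w := by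
      refine ⟨?_, ?_, ?_, ?_⟩ <;>
        simp only [hu, hw, mul_sub, sub_mul, mul_smul_comm, smul_mul_assoc, hel, her, he.eq]
    have h1 : e * a * e = c • e + u := by rw [hu]; abel
    have h2 : e * b * e = d • e + w := by rw [hw]; abel
    rw [h1, h2]
    simp only [add_mul, mul_add, mul_smul_comm, smul_mul_assoc, he.eq, heu.1, heu.2.1, heu.2.2.1,
      heu.2.2.2, map_add, map_smul, hψ0 _ (hPmem u hc w hd), hψ0 _ (hPmem w hd u hc), smul_eq_mul]
    ring
  let φ : Module.Dual k R := ∑ l, ψ ∘ₗ (LinearMap.mulLeft k (e * Y l)) ∘ₗ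
    (LinearMap.mulRight k (x l * e))
  have hφ : ∀ r, φ r = ∑ l, ψ (e * Y l * (r * (x l * e))) := fun r => by simp [φ, mul_assoc]
  refine ⟨φ, fun a b => ?_, fun a ha b hb => ?_, v, hvJ, ?_⟩
  · have hexp : ∀ a b, φ (a * b) =
        ∑ l, ∑ m, ψ ((e * (Y l * a * x m) * e) * (e * (Y m * b * x l) * e)) := by
      intro a b
      rw [hφ]
      refine Finset.sum_congr rfl fun l _ => ?_
      rw [show e * Y l * (a * b * (x l * e)) =
          e * Y l * a * (∑ m, x m * e * Y m) * b * x l * e by
        rw [hone, mul_one]; simp only [mul_assoc], Finset.mul_sum, Finset.sum_mul, Finset.sum_mul,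
        Finset.sum_mul, map_sum]
      exact Finset.sum_congr rfl fun m _ => by simp only [mul_assoc, hee]
    rw [hexp, hexp, Finset.sum_comm]
    exact Finset.sum_congr rfl fun l _ => Finset.sum_congr rfl fun m _ => hcomm _ _
  · rw [hφ]
    refine Finset.sum_eq_zero fun l _ => hψ0 _ ?_
    rw [← mul_assoc]
    exact hPtwo _ _ _ (hPmem a ha b hb)
  · rw [hφ]
    have hterm : ∀ l, ψ (e * Y l * (v * (x l * e))) =
        ψ (v * ((e * x l * e) * (e * Y l * e))) := by
      intro l
      have h := hcomm (Y l) (j₀ * e * x l)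
      simp only [hvdef, mul_assoc, hee] at h ⊢
      exact h
    rw [Finset.sum_congr rfl fun l _ => hterm l, ← map_sum, ← Finset.mul_sum]
    have : ∑ l, (e * x l * e) * (e * Y l * e) = e := by
      calc _ = e * (∑ l, x l * e * Y l) * e := by
            rw [Finset.mul_sum, Finset.sum_mul]
            exact Finset.sum_congr rfl fun l _ => by simp only [mul_assoc, hee]
        _ = e := by rw [hone, mul_one, he.eq]
    rw [this, hvdef, mul_assoc, he.eq]
    exact hψv

omit hsymm hnd in
/-- A semisimple algebra does not have these properties. -/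
theorem not_semisimple (hZ : finrank k (Subalgebra.center k R) = 2)
    (hI : ∀ z ∈ Subalgebra.center k R, z * z = z → z = 0 ∨ z = 1) {s : ℕ} (hs : 0 < s) (hs2 : s ≤ 2)
    {d : Fin s → ℕ} (hd : ∀ i, NeZero (d i))
    (Φ : R ≃ₐ[k] Π i, Matrix (Fin (d i)) (Fin (d i)) k) : False := by
  classical
  rcases (show s = 1 ∨ s = 2 by omega) with rfl | rfl
  · haveI := hd 0
    let Ψ : R ≃ₐ[k] Matrix (Fin (d 0)) (Fin (d 0)) k := Φ.trans
      (AlgEquiv.ofRingEquiv (f := RingEquiv.piUnique fun i : Fin 1 => Matrix (Fin (d i)) (Fin (d i)) k)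
        fun _ => rfl)
    have hbot : Subalgebra.center k R = ⊥ := by
      refine eq_bot_iff.mpr fun z hz => ?_
      have hz' : Ψ z ∈ Subalgebra.center k (Matrix (Fin (d 0)) (Fin (d 0)) k) :=
        Subalgebra.mem_center_iff.mpr fun m => by
          obtain ⟨a, rfl⟩ := Ψ.surjective m
          rw [← map_mul, ← map_mul, Subalgebra.mem_center_iff.mp hz a]
      rw [Algebra.IsCentral.center_eq_bot, Algebra.mem_bot] at hz'
      obtain ⟨c, hc⟩ := hz'
      exact Algebra.mem_bot.mpr ⟨c, Ψ.injective (by rw [AlgEquiv.commutes, hc])⟩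
    haveI : Nontrivial R := Ψ.toEquiv.nontrivial
    rw [hbot, Subalgebra.finrank_bot] at hZ
    omega
  · haveI := hd 0
    haveI := hd 1
    set w : Π i, Matrix (Fin (d i)) (Fin (d i)) k := Pi.single (0 : Fin 2) 1 with hw
    set z := Φ.symm w with hz
    have hzc : z ∈ Subalgebra.center k R := Subalgebra.mem_center_iff.mpr fun a => by
      apply Φ.injective
      rw [map_mul, map_mul, hz, AlgEquiv.apply_symm_apply]
      funext i
      by_cases hi : i = 0
      · subst hi; simp [hw]
      · simp [hw, Pi.single_eq_of_ne hi]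
    have hzz : z * z = z := by
      rw [hz, ← map_mul, hw, ← Pi.single_mul, mul_one]
    rcases hI z hzc hzz with h | h
    · have := congrFun (congrArg Φ h) 0
      rw [hz, AlgEquiv.apply_symm_apply, map_zero, hw, Pi.single_eq_same] at this
      exact one_ne_zero this
    · have := congrFun (congrArg Φ h) 1
      rw [hz, AlgEquiv.apply_symm_apply, map_one, hw, Pi.single_eq_of_ne (by decide)] at this
      exact one_ne_zero this.symm

omit hsymm hnd in
omit [FiniteDimensional k R] in
/-- Functionals separated by elements are independent. -/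
theorem linearIndependent_of_separated {ι : Type*} [Fintype ι] (l : ι → Module.Dual k R) (r : ι → R)
    (hdiag : ∀ i, l i (r i) ≠ 0) (hoff : ∀ i j, i ≠ j → l i (r j) = 0) :
    LinearIndependent k l := by
  rw [Fintype.linearIndependent_iff]
  intro c hc i
  have h := LinearMap.congr_fun hc (r i)
  rw [LinearMap.sum_apply, Finset.sum_eq_single i (fun j _ hj => by
    rw [LinearMap.smul_apply, hoff j i hj, smul_zero]) (by simp), LinearMap.smul_apply,
    LinearMap.zero_apply, smul_eq_mul] at h
  exact (mul_eq_zero.mp h).resolve_right (hdiag i)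

omit hsymm hnd in
/-- There are no more separated symmetric functionals than the dimension of their space. -/
theorem card_le_of_separated {ι : Type*} [Fintype ι] {A : Submodule k (Module.Dual k R)}
    (l : ι → Module.Dual k R) (r : ι → R) (hl : ∀ i, l i ∈ A)
    (hdiag : ∀ i, l i (r i) ≠ 0) (hoff : ∀ i j, i ≠ j → l i (r j) = 0) :
    Fintype.card ι ≤ finrank k A := by
  rw [← finrank_span_eq_card (linearIndependent_of_separated l r hdiag hoff)]
  exact Submodule.finrank_mono (Submodule.span_le.mpr (Set.range_subset_iff.mpr hl))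

/-- With one simple module the dimension is twice that of the semisimple quotient. -/
theorem finrank_eq_of_simple [Nontrivial R] (hZ : finrank k (Subalgebra.center k R) = 2) {n : ℕ}
    [NeZero n] (π₀ : R →ₐ[k] Matrix (Fin n) (Fin n) k) (hπ₀s : Function.Surjective π₀)
    (hπ₀k : ∀ x, π₀ x = 0 ↔ x ∈ Ring.jacobson R) {j₁ : R} (hj₁ : j₁ ∈ Ring.jacobson R)
    (htj : t j₁ ≠ 0) : finrank k R = 2 * n ^ 2 := by
  classical
  haveI := IsArtinianRing.of_finite k R
  set J := Ring.jacobson R with hJdef
  have hJ0 : J ≠ ⊥ := fun h => htj (by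
    rw [h, Ideal.mem_bot] at hj₁
    rw [hj₁, map_zero])
  obtain ⟨φ, hφs, hφP, v, hv, hφv⟩ := exists_symm_functional π₀ hπ₀s hπ₀k hJ0
  obtain ⟨r₀, hr₀⟩ := hπ₀s (Matrix.single 0 0 (1 : k))
  let τ : Module.Dual k R := (Matrix.traceLinearMap (Fin n) k k) ∘ₗ π₀.toLinearMap
  have hτ : ∀ x, τ x = (π₀ x).trace := fun x => rfl
  have hτJ : ∀ x ∈ J, τ x = 0 := fun x hx => by rw [hτ, (hπ₀k x).mpr hx, Matrix.trace_zero]
  let r : Fin 2 → R := ![j₁, r₀ - (t r₀ / t j₁) • j₁]
  have hdiag : ∀ i, (![t, τ] : Fin 2 → Module.Dual k R) i (r i) ≠ 0 := by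
    intro i
    fin_cases i
    · simpa [r] using htj
    · simp [r, hτJ _ hj₁, hτ r₀, hr₀, Matrix.trace_single_eq_same]
  have hoff : ∀ i j, i ≠ j → (![t, τ] : Fin 2 → Module.Dual k R) i (r j) = 0 := by
    intro i j hij
    fin_cases i <;> fin_cases j
    · exact absurd rfl hij
    · simp [r, div_mul_cancel₀ _ htj]
    · simp [r, hτJ _ hj₁]
    · exact absurd rfl hij
  set A := (commSpan k R).dualAnnihilator with hA
  have hmemA : ∀ i, (![t, τ] : Fin 2 → Module.Dual k R) i ∈ A := by
    intro i
    fin_cases i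
    · exact mem_annihilator_commSpan.mpr hsymm
    · refine mem_annihilator_commSpan.mpr fun a b => ?_
      show (π₀ (a * b)).trace = (π₀ (b * a)).trace
      rw [map_mul, map_mul, Matrix.trace_mul_comm]
  have hspan : Submodule.span k (Set.range (![t, τ] : Fin 2 → Module.Dual k R)) = A := by
    refine Submodule.eq_of_le_of_finrank_le (Submodule.span_le.mpr (Set.range_subset_iff.mpr hmemA)) ?_
    rw [finrank_span_eq_card (linearIndependent_of_separated _ r hdiag hoff), hA,
      finrank_annihilator_commSpan hsymm hnd, hZ, Fintype.card_fin]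
  have hφA : φ ∈ A := mem_annihilator_commSpan.mpr hφs
  rw [← hspan, Submodule.mem_span_range_iff_exists_fun] at hφA
  obtain ⟨c, hc⟩ := hφA
  have hφJ : ∀ x ∈ J, φ x = c 0 * t x := by
    intro x hx
    rw [← hc]
    simp [Fin.sum_univ_two, hτJ x hx]
  have hc0 : c 0 ≠ 0 := fun h => hφv (by rw [hφJ v hv, h, zero_mul])
  have hJJ : ∀ x ∈ J, ∀ y ∈ J, t (x * y) = 0 := fun x hx y hy => by
    have := hφP x hx y hy
    rw [hφJ _ (J.mul_mem_left x hy)] at this
    exact (mul_eq_zero.mp this).resolve_left hc0
  -- the orthogonal of the radical is the radical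
  let Ψ : R →ₗ[k] Module.Dual k (J.restrictScalars k) :=
    (Submodule.subtype (J.restrictScalars k)).dualMap ∘ₗ pairing t
  have hΨs : Function.Surjective Ψ :=
    (LinearMap.dualMap_surjective_of_injective Subtype.coe_injective).comp
      (pairing_bijective hsymm hnd).2
  have hΨk : LinearMap.ker Ψ = J.restrictScalars k := by
    refine le_antisymm (fun a ha => ?_) fun a ha => ?_
    · have ha' : ∀ j ∈ J, t (a * j) = 0 := fun j hj => LinearMap.congr_fun ha ⟨j, hj⟩
      by_contra haJ
      have hne : π₀ a ≠ 0 := fun h => haJ ((hπ₀k a).mp h)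
      obtain ⟨i, j, hij⟩ : ∃ i j, π₀ a i j ≠ 0 := by
        by_contra h
        simp only [not_exists, not_not] at h
        exact hne (by ext i j; exact h i j)
      choose X hX using fun l : Fin n => hπ₀s (Matrix.single l i ((π₀ a i j)⁻¹))
      choose Y hY using fun l : Fin n => hπ₀s (Matrix.single j l (1 : k))
      have h1 : (1 : R) - ∑ l, X l * a * Y l ∈ J := by
        rw [← hπ₀k, map_sub, map_one, map_sum]
        simp only [map_mul, hX, hY, Matrix.single_mul_mul_single, inv_mul_cancel₀ hij, one_mul,
          mul_one]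
        rw [← Matrix.diagonal_one, ← Matrix.sum_single_eq_diagonal, sub_self]
      apply htj
      have e1 : j₁ = ((1 : R) - ∑ l, X l * a * Y l) * j₁ + ∑ l, X l * a * Y l * j₁ := by
        rw [sub_mul, one_mul, Finset.sum_mul, sub_add_cancel]
      rw [e1, map_add, hJJ _ h1 _ hj₁, zero_add, map_sum]
      refine Finset.sum_eq_zero fun l _ => ?_
      rw [mul_assoc, mul_assoc, hsymm, mul_assoc]
      exact ha' _ (J.mul_mem_right _ (J.mul_mem_left _ hj₁))
    · exact LinearMap.ext fun j => hJJ a ha j j.2
  have h1 := LinearMap.finrank_range_add_finrank_ker Ψ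
  rw [LinearMap.range_eq_top.mpr hΨs, finrank_top, Subspace.dual_finrank_eq, hΨk] at h1
  have h2 := LinearMap.finrank_range_add_finrank_ker π₀.toLinearMap
  have hk2 : LinearMap.ker π₀.toLinearMap = J.restrictScalars k :=
    Submodule.ext fun x => hπ₀k x
  rw [LinearMap.range_eq_top.mpr hπ₀s, finrank_top, hk2, Module.finrank_matrix, Module.finrank_self,
    Fintype.card_fin] at h2
  rw [sq]
  omega

/-- The dimension is twice a square. -/
theorem exists_finrank_eq_two_mul_sq [IsAlgClosed k] [Nontrivial R]
    (hZ : finrank k (Subalgebra.center k R) = 2)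
    (hI : ∀ z ∈ Subalgebra.center k R, z * z = z → z = 0 ∨ z = 1) :
    ∃ n : ℕ, n ≠ 0 ∧ finrank k R = 2 * n ^ 2 := by
  classical
  haveI := IsArtinianRing.of_finite k R
  set J := Ring.jacobson R with hJdef
  obtain ⟨s, d, hd, ⟨E⟩⟩ :=
    IsSemisimpleRing.exists_algEquiv_pi_matrix_of_isAlgClosed (F := k) (R := R ⧸ J)
  let π : R →ₐ[k] Π i, Matrix (Fin (d i)) (Fin (d i)) k :=
    E.toAlgHom.comp (Ideal.Quotient.mkₐ k J)
  have hπs : Function.Surjective π :=
    E.surjective.comp (Ideal.Quotient.mkₐ_surjective k J)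
  have hπk : ∀ x, π x = 0 ↔ x ∈ J := fun x => by
    show E (Ideal.Quotient.mkₐ k J x) = 0 ↔ _
    rw [map_eq_zero_iff E E.injective, Ideal.Quotient.mkₐ_eq_mk, Ideal.Quotient.eq_zero_iff_mem]
  haveI : Nontrivial (R ⧸ J) :=
    Ideal.Quotient.nontrivial_iff.mpr (Ring.jacobson_lt_top R).ne
  have hs : 0 < s := by
    rcases Nat.eq_zero_or_pos s with rfl | h
    · exact absurd (E.injective (Subsingleton.elim (E 0) (E 1))) zero_ne_one
    · exact h
  have hAfin : finrank k (commSpan k R).dualAnnihilator = 2 := by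
    rw [finrank_annihilator_commSpan hsymm hnd, hZ]
  let τ : Fin s → Module.Dual k R := fun i =>
    (Matrix.traceLinearMap (Fin (d i)) k k) ∘ₗ (LinearMap.proj i) ∘ₗ π.toLinearMap
  have hτ : ∀ i x, τ i x = (π x i).trace := fun i x => rfl
  have hτA : ∀ i, τ i ∈ (commSpan k R).dualAnnihilator := fun i =>
    mem_annihilator_commSpan.mpr fun a b => by
      rw [hτ, hτ, map_mul, map_mul, Pi.mul_apply, Pi.mul_apply, Matrix.trace_mul_comm]
  have hr : ∀ i, ∃ r : R, τ i r = 1 ∧ ∀ j, j ≠ i → τ j r = 0 := by
    intro i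
    haveI := hd i
    obtain ⟨r, hr⟩ := hπs (Pi.single i (Matrix.single 0 0 (1 : k)))
    refine ⟨r, ?_, fun j hj => ?_⟩
    · rw [hτ, hr, Pi.single_eq_same, Matrix.trace_single_eq_same]
    · rw [hτ, hr, Pi.single_eq_of_ne hj, Matrix.trace_zero]
  choose r hr1 hr0 using hr
  have hs2 : s ≤ 2 := by
    have := card_le_of_separated τ r hτA (fun i => by rw [hr1]; exact one_ne_zero)
      (fun i j h => hr0 j i h)
    rwa [Fintype.card_fin, hAfin] at this
  by_cases hJ0 : J = ⊥
  · exfalso
    have hπi : Function.Injective π := (injective_iff_map_eq_zero π).mpr fun x hx => by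
      simpa [hJ0] using (hπk x).mp hx
    exact not_semisimple hZ hI hs hs2 hd (AlgEquiv.ofBijective π ⟨hπi, hπs⟩)
  -- the radical is not killed by the form
  have hJk : ∃ j ∈ J, t j ≠ 0 := by
    by_contra hcon
    simp only [not_exists, not_and, not_not] at hcon
    refine hJ0 (le_bot_iff.mp fun j hj => ?_)
    exact eq_zero_of_mul_mem hsymm hnd (P := J.restrictScalars k)
      (fun x hx r => J.mul_mem_right r hx) hcon hj
  obtain ⟨j₁, hj₁, htj⟩ := hJk
  have hτJ : ∀ i, τ i j₁ = 0 := fun i => by
    rw [hτ, (hπk j₁).mpr hj₁, Pi.zero_apply, Matrix.trace_zero]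
  have hs1 : s = 1 := by
    have := card_le_of_separated (A := (commSpan k R).dualAnnihilator)
      (fun o : Option (Fin s) => o.elim t τ)
      (fun o : Option (Fin s) => o.elim j₁ fun i => r i - (t (r i) / t j₁) • j₁)
      (fun o => by cases o <;> [exact mem_annihilator_commSpan.mpr hsymm; exact hτA _])
      (fun o => by cases o <;> [exact htj; simp [hτJ, hr1]])
      (fun o o' h => by
        rcases o with _ | i <;> rcases o' with _ | j
        · exact absurd rfl h
        · simp [div_mul_cancel₀ _ htj]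
        · exact hτJ i
        · simp [hτJ, hr0 j i (fun e => h (congrArg some e))])
    rw [Fintype.card_option, Fintype.card_fin, hAfin] at this
    omega
  subst hs1
  haveI := hd 0
  refine ⟨d 0, NeZero.ne _, finrank_eq_of_simple hsymm hnd hZ
    ((Pi.evalAlgHom k (fun i => Matrix (Fin (d i)) (Fin (d i)) k) 0).comp π) (fun m => ?_)
    (fun x => ?_) hj₁ htj⟩
  · obtain ⟨r, hr⟩ := hπs (Pi.single 0 m)
    exact ⟨r, by simp [hr]⟩
  · rw [← hπk]
    refine ⟨fun h => funext fun i => ?_, fun h => by simp [h]⟩
    rw [Fin.fin_one_eq_zero i]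
    exact h

end CfsgLib.Blocks.TwoChars
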